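import Groth.Agent.HLVTLib.Symbolic
import Groth.Agent.FlatCxLib.TFun
import Mathlib.RingTheory.Length
import Mathlib.RingTheory.LocalRing.Module
import Mathlib.RingTheory.Filtration

/-! Freeness and homology through lengths over truncations of a local ring. -/

set_option autoImplicit false
universe u

open TensorProduct IsLocalRing

namespace LenCritLib

variable {A : Type u} [CommRing A] [IsLocalRing A] [IsNoetherianRing A]

/-- `A / m ^ (n+1)` -/
abbrev An (A : Type u) [CommRing A] [IsLocalRing A] (n : ℕ) : Type u := A ⧸ maximalIdeal A ^ (n + 1)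

theorem length_An_ne_top (n : ℕ) : Module.length A (An A n) ≠ ⊤ := by
  haveI := HLVTLib.isArtinianRing_quotient_pow (R := A) (n + 1)
  rw [Module.length_eq_of_surjective (R := An A n) (S := A) Ideal.Quotient.mk_surjective]
  exact Module.length_ne_top

theorem length_sub_add_quot {B : Type u} [CommRing B] {N : Type u} [AddCommGroup N] [Module B N] (S : Submodule B N) :
    Module.length B N = Module.length B S + Module.length B (N ⧸ S) :=
  Module.length_eq_add_of_exact S.subtype S.mkQ (Submodule.injective_subtype S) S.mkQ_surjective
    (LinearMap.exact_subtype_mkQ S)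

variable (W : Type u) [AddCommGroup W] [Module A W] [Module.Finite A W]

/-- minimal number of generators -/
noncomputable def gens (A : Type u) [CommRing A] [IsLocalRing A] (W : Type u) [AddCommGroup W] [Module A W] : ℕ :=
  Module.finrank (ResidueField A) (ResidueField A ⊗[A] W)

theorem length_tensor_residue : Module.length A (W ⊗[A] ResidueField A) = (gens A W : ℕ∞) := by
  rw [(TensorProduct.comm A W (ResidueField A)).length_eq,
    Module.length_eq_of_surjective (R := ResidueField A) (S := A) Ideal.Quotient.mk_surjective]
  exact Module.length_eq_finrank _ _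

theorem exists_cover : ∃ φ : (Fin (gens A W) → A) →ₗ[A] W, Function.Surjective φ := by
  let b := Module.finBasis (ResidueField A) (ResidueField A ⊗[A] W)
  choose s hs using fun i => TensorProduct.mk_surjective A W (ResidueField A) Ideal.Quotient.mk_surjective (b i)
  refine ⟨Fintype.linearCombination A s, ?_⟩
  rw [← LinearMap.range_eq_top, Fintype.range_linearCombination]
  exact IsLocalRing.span_eq_top_of_tmul_eq_basis s b fun i => hs i

theorem length_free_tensor (w n : ℕ) :
    Module.length A ((Fin w → A) ⊗[A] An A n) = w * Module.length A (An A n) := by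
  rw [((TensorProduct.comm A _ _).trans (TensorProduct.piScalarRight A A (An A n) (Fin w))).length_eq,
    Module.length_pi_of_fintype]
  simp

theorem length_tensor_le (n : ℕ) :
    Module.length A (W ⊗[A] An A n) ≤ gens A W * Module.length A (An A n) := by
  obtain ⟨φ, hφ⟩ := exists_cover (A := A) W
  rw [← length_free_tensor]
  exact Module.length_le_of_surjective (φ.rTensor _) (LinearMap.rTensor_surjective _ hφ)

theorem length_tensor_eq_of_free [Module.Free A W] (n : ℕ) :
    Module.length A (W ⊗[A] An A n) = gens A W * Module.length A (An A n) := by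
  let e : W ≃ₗ[A] (Fin (Module.finrank A W) → A) := (Module.finBasis A W).equivFun
  have hg : gens A W = Module.finrank A W := Module.finrank_baseChange
  rw [(TensorProduct.congr e (LinearEquiv.refl A (An A n))).length_eq, length_free_tensor, hg]

theorem free_of_length_eq (n₀ : ℕ)
    (h : ∀ n, n₀ ≤ n → Module.length A (W ⊗[A] An A n) = gens A W * Module.length A (An A n)) :
    Module.Free A W := by
  obtain ⟨φ, hφ⟩ := exists_cover (A := A) W
  suffices hinj : Function.Injective φ from Module.Free.of_equiv (LinearEquiv.ofBijective φ ⟨hinj, hφ⟩)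
  refine (injective_iff_map_eq_zero _).2 fun x hx => funext fun i => ?_
  have hinter : x i ∈ ⨅ n : ℕ, maximalIdeal A ^ n := by
    refine Submodule.mem_iInf _ |>.2 fun n => ?_
    let N := max n n₀
    refine Ideal.pow_le_pow_right (show n ≤ N + 1 by omega) ?_
    let g := φ.rTensor (An A N)
    have hk : Module.length A (LinearMap.ker g) = 0 := by
      have h1 := length_sub_add_quot (LinearMap.ker g)
      rw [(g.quotKerEquivOfSurjective (LinearMap.rTensor_surjective _ hφ)).length_eq] at h1
      rw [length_free_tensor, h N (le_max_right _ _)] at h1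
      have hfin : (gens A W : ℕ∞) * Module.length A (An A N) ≠ ⊤ := by
        obtain ⟨l, hl⟩ := WithTop.ne_top_iff_exists.1 (length_An_ne_top (A := A) N)
        rw [← hl]
        exact_mod_cast WithTop.natCast_ne_top (gens A W * l)
      exact (WithTop.add_right_inj hfin).1 ((zero_add _).trans h1).symm
    haveI := Module.length_eq_zero_iff.1 hk
    have hx0 : x ⊗ₜ[A] (1 : An A N) = 0 := congrArg Subtype.val
      (Subsingleton.elim (⟨x ⊗ₜ[A] (1 : An A N), by simp [g, hx]⟩ : LinearMap.ker g) 0)
    have h2 := congrArg (fun t => TensorProduct.lid A (An A N) ((LinearMap.proj i).rTensor (An A N) t)) hx0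
    simp only [LinearMap.rTensor_tmul, TensorProduct.lid_tmul, map_zero, LinearMap.proj_apply] at h2
    rw [← Algebra.algebraMap_eq_smul_one, Ideal.Quotient.algebraMap_eq] at h2
    exact Ideal.Quotient.eq_zero_iff_mem.1 h2
  rw [Ideal.iInf_pow_eq_bot_of_isLocalRing _ (maximalIdeal.isMaximal A).ne_top] at hinter
  exact hinter

section Cx

variable {U V Z M : Type u} [AddCommGroup U] [Module A U] [AddCommGroup V] [Module A V] [AddCommGroup Z]
  [Module A Z] [AddCommGroup M] [Module A M]

/-- homology length from cokernel lengths -/
theorem length_homology_add (a : U →ₗ[A] V) (b : V →ₗ[A] Z) (hab : b ∘ₗ a = 0)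
    (hfin : Module.length A (V ⊗[A] M) ≠ ⊤) :
    Module.length A (LinearMap.ker (b.rTensor M) ⧸
        (LinearMap.range (a.rTensor M)).comap (LinearMap.ker (b.rTensor M)).subtype) +
        Module.length A (Z ⊗[A] M) =
      Module.length A ((V ⧸ LinearMap.range a) ⊗[A] M) + Module.length A ((Z ⧸ LinearMap.range b) ⊗[A] M) := by
  let f := a.rTensor M
  let g := b.rTensor M
  have hsub : LinearMap.range f ≤ LinearMap.ker g := by
    rintro _ ⟨x, rfl⟩
    rw [LinearMap.mem_ker, ← LinearMap.comp_apply, ← LinearMap.rTensor_comp, hab, LinearMap.rTensor_zero]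
    rfl
  let R := (LinearMap.range f).comap (LinearMap.ker g).subtype
  have e1 := Module.length_eq_add_of_exact (Submodule.subtype (LinearMap.ker g)) g.rangeRestrict
    (Submodule.injective_subtype _) (LinearMap.surjective_rangeRestrict g)
    (by rw [LinearMap.exact_iff, Submodule.range_subtype, LinearMap.ker_rangeRestrict])
  have e2 : Module.length A (Z ⊗[A] M) = Module.length A (LinearMap.range g) +
      Module.length A ((Z ⧸ LinearMap.range b) ⊗[A] M) := by
    refine Module.length_eq_add_of_exact (LinearMap.range g).subtype ((LinearMap.range b).mkQ.rTensor M)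
      (Submodule.injective_subtype _) (LinearMap.rTensor_surjective _ (Submodule.mkQ_surjective _)) ?_
    rw [LinearMap.exact_iff, Submodule.range_subtype]
    exact (rTensor_exact M (LinearMap.exact_map_mkQ_range b) (Submodule.mkQ_surjective _)).linearMap_ker_eq
  have e3 : Module.length A (V ⊗[A] M) = Module.length A (LinearMap.range f) +
      Module.length A ((V ⧸ LinearMap.range a) ⊗[A] M) := by
    refine Module.length_eq_add_of_exact (LinearMap.range f).subtype ((LinearMap.range a).mkQ.rTensor M)
      (Submodule.injective_subtype _) (LinearMap.rTensor_surjective _ (Submodule.mkQ_surjective _)) ?_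
    rw [LinearMap.exact_iff, Submodule.range_subtype]
    exact (rTensor_exact M (LinearMap.exact_map_mkQ_range a) (Submodule.mkQ_surjective _)).linearMap_ker_eq
  have e4 : Module.length A (LinearMap.ker g) =
      Module.length A (LinearMap.range f) + Module.length A (LinearMap.ker g ⧸ R) := by
    rw [length_sub_add_quot R, (Submodule.comapSubtypeEquivOfLe hsub).length_eq]
  have h5 : Module.length A (LinearMap.range f) ≠ ⊤ := fun ht => hfin (by rw [e3, ht, top_add])
  refine (WithTop.add_left_inj h5).1 ?_
  calc _ = Module.length A (LinearMap.range f) + Module.length A (LinearMap.ker g ⧸ R) +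
        Module.length A (Z ⊗[A] M) := (add_assoc _ _ _).symm
    _ = Module.length A (LinearMap.ker g) + Module.length A (LinearMap.range g) +
        Module.length A ((Z ⧸ LinearMap.range b) ⊗[A] M) := by rw [← e4, e2, add_assoc]
    _ = _ := by rw [← e1, e3, add_assoc]; rfl

end Cx

end LenCritLib
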